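import Cfsg.Agent.H273.Sidki
import Cfsg.Agent.S3011
import Cfsg.Agent.S3013
import Cfsg.Agent.Involutions.BaerSuzuki

/-!
# S3010 (Sidki pairs): the data of a minimal counterexample and the row predicate (helper282)

A minimal counterexample to S3010 is a group `G = K V` with `K` simple and nonabelian, `C_G(K) = 1`, `V` an
elementary abelian Sidki 2-subgroup of order at least 8, such that every smaller group satisfies the statement:
`Cx V K`. A row is `DeadS P`: no such `G` has `P K`.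
-/

set_option autoImplicit false
set_option linter.unusedVariables false
set_option linter.style.haveILetI false

universe u

open Subgroup Cfsg
open Cfsg.Agent.Involutions.BaerSuzuki

namespace Cfsg.Agent.H282.SK

/-! ### `O_2` of a subgroup -/

section O2
variable {G : Type*} [Group G]

/-- `O_2(H)` as a subgroup of `G`. -/
def O2 (H : Subgroup G) : Subgroup G := (pCore 2 H).map H.subtype

theorem O2_le (H : Subgroup G) : O2 H ≤ H := map_subtype_le _

theorem le_normalizer_O2 (H : Subgroup G) : H ≤ normalizer ((O2 H : Subgroup G) : Set G) := by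
  have h : (H.subtype.range : Subgroup G) ≤ normalizer (((pCore 2 H).map H.subtype : Subgroup G) : Set G) := by
    have := Subgroup.le_normalizer_map (H := pCore 2 H) H.subtype
    rw [Subgroup.normalizer_eq_top_iff.2 (Lib.Cores.pCore_normal 2), ← MonoidHom.range_eq_map] at this
    exact this
  rwa [Subgroup.range_subtype] at h

theorem conj_mem_O2 {H : Subgroup G} {h r : G} (hh : h ∈ H) (hr : r ∈ O2 H) : h * r * h⁻¹ ∈ O2 H :=
  (mem_normalizer_iff.1 (le_normalizer_O2 H hh) r).1 hr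

theorem isPGroup_O2 [Finite G] (H : Subgroup G) : IsPGroup 2 (O2 H) := (Lib.Cores.pCore_isPGroup 2).map _

/-- an element of odd order of `O_2(H)` is trivial -/
theorem eq_one_of_mem_O2 [Finite G] {H : Subgroup G} {y : G} (hy : y ∈ O2 H) (ho : Odd (orderOf y)) : y = 1 := by
  obtain ⟨k, hk⟩ := isPGroup_O2 H ⟨y, hy⟩
  have hk' : y ^ 2 ^ k = 1 := congrArg Subtype.val hk
  have hd : orderOf y ∣ 2 ^ k := orderOf_dvd_of_pow_eq_one hk'
  have h1 : orderOf y = 1 :=
    Nat.Coprime.eq_one_of_dvd ((Nat.Coprime.pow_right k ((Nat.coprime_two_right).2 ho))) hd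
  exact orderOf_eq_one_iff.1 h1

/-- an element of `O_2(H)` inverts no nontrivial element of odd order of `H` -/
theorem eq_one_of_inv [Finite G] {H : Subgroup G} {r y : G} (hr : r ∈ O2 H) (hy : y ∈ H)
    (ho : Odd (orderOf y)) (hi : r * y * r⁻¹ = y⁻¹) : y = 1 := by
  have h1 : (y ^ 2)⁻¹ ∈ O2 H := by
    have e : (y ^ 2)⁻¹ = r * (y * r⁻¹ * y⁻¹) := by
      calc (y ^ 2)⁻¹ = y⁻¹ * y⁻¹ := by rw [pow_two]; group
        _ = (r * y * r⁻¹) * y⁻¹ := by rw [hi]
        _ = r * (y * r⁻¹ * y⁻¹) := by group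
    rw [e]
    exact (O2 H).mul_mem hr (conj_mem_O2 hy ((O2 H).inv_mem hr))
  have h2 : y ^ 2 ∈ O2 H := by simpa using (O2 H).inv_mem h1
  have h3 : y ∈ O2 H := S3011.mem_of_sq ho h2
  exact eq_one_of_mem_O2 h3 ho

/-- an element of `O_2(H)` commutes with every element of odd order of `H` it normalises `⟨y⟩`-wise: more
generally, if `[r, y]` has odd order then `r` commutes with `y`. -/
theorem commute_of_odd_comm [Finite G] {H : Subgroup G} {r y : G} (hr : r ∈ O2 H) (hy : y ∈ H)
    (ho : Odd (orderOf (r * y * r⁻¹ * y⁻¹))) : Commute r y := by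
  have h1 : r * y * r⁻¹ * y⁻¹ ∈ O2 H := by
    have e : r * y * r⁻¹ * y⁻¹ = r * (y * r⁻¹ * y⁻¹) := by group
    rw [e]
    exact (O2 H).mul_mem hr (conj_mem_O2 hy ((O2 H).inv_mem hr))
  have h2 := eq_one_of_mem_O2 h1 ho
  rw [mul_inv_eq_one, mul_inv_eq_iff_eq_mul] at h2
  exact h2

/-- an element of `O_2(H)` centralises every subgroup of odd order `Q ≤ H` it normalises -/
theorem commute_of_odd_subgroup [Finite G] {H Q : Subgroup G} {r y : G} (hr : r ∈ O2 H) (hQ : Q ≤ H)
    (hodd : Odd (Nat.card Q)) (hn : r ∈ normalizer (Q : Set G)) (hy : y ∈ Q) : Commute r y := by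
  apply commute_of_odd_comm hr (hQ hy)
  have h1 : r * y * r⁻¹ * y⁻¹ ∈ Q := Q.mul_mem ((mem_normalizer_iff.1 hn y).1 hy) (Q.inv_mem hy)
  exact Odd.of_dvd_nat hodd (Subgroup.orderOf_dvd_natCard Q h1)

/-- **Baer-Suzuki.** An involution of `H` that inverts no nontrivial element of odd order of `H` lies in `O_2(H)`. -/
theorem mem_O2_of [Finite G] {H : Subgroup G} {t : G} (htH : t ∈ H) (ht : t * t = 1)
    (h : ∀ y ∈ H, Odd (orderOf y) → t * y * t⁻¹ = y⁻¹ → y = 1) : t ∈ O2 H := by
  have key : IsPGroup 2 (Subgroup.normalClosure {(⟨t, htH⟩ : H)} : Subgroup H) := by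
    by_contra hcon
    obtain ⟨y, hy1, hyo, hyi⟩ := exists_odd_inverted (⟨t, htH⟩ : H) (Subtype.ext ht) hcon
    apply hy1
    have h1 := h (y : G) y.2 (by rwa [Subgroup.orderOf_coe]) (by
      have := congrArg Subtype.val hyi
      simpa using this)
    exact Subtype.ext h1
  have h1 : (Subgroup.normalClosure {(⟨t, htH⟩ : H)} : Subgroup H) ≤ pCore 2 H :=
    le_sSup ⟨Subgroup.normalClosure_normal, key⟩
  exact ⟨⟨t, htH⟩, h1 (Subgroup.subset_normalClosure (by simp)), rfl⟩

end O2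

/-! ### The data -/

/-- A minimal counterexample `G = K V` to S3010. -/
structure Cx {G : Type u} [Group G] [Finite G] (V K : Subgroup G) : Prop where
  elem : IsElementaryAbelian 2 V
  sidki : IsSidkiPair V
  card : 8 ≤ Nat.card V
  norm : K.Normal
  simple : IsSimpleGroup K
  nonab : ¬ IsMulCommutative K
  cent : centralizer (K : Set G) = ⊥
  sup : K ⊔ V = ⊤
  bot : V ⊓ pCore 2 G = ⊥
  min : Cfsg.Agent.H273.Sidki.Min.{u} (Nat.card G)
  minV : ∀ W : Subgroup G, Nat.card W < Nat.card V → IsElementaryAbelian 2 W → W ≠ ⊥ → ¬ IsSidkiPair W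

/-- The row `P` is dead. -/
def DeadS (P : (K : Type u) → [Group K] → Prop) : Prop :=
  ∀ {G : Type u} [Group G] [Finite G] (V K : Subgroup G), Cx V K → P K → False

namespace Cx

variable {G : Type u} [Group G] [Finite G] {V K : Subgroup G}

theorem comm (h : Cx V K) {a b : G} (ha : a ∈ V) (hb : b ∈ V) : Commute a b :=
  H273.Sidki.elemAb_comm h.elem ha hb

theorem sq (h : Cx V K) {a : G} (ha : a ∈ V) : a * a = 1 := by
  have := h.elem.2 a ha
  rwa [pow_two] at this

theorem inv_eq (h : Cx V K) {a : G} (ha : a ∈ V) : a⁻¹ = a := by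
  rw [inv_eq_iff_mul_eq_one]; exact h.sq ha

theorem V_ne_bot (h : Cx V K) : V ≠ ⊥ := by
  rintro rfl
  have := h.card
  rw [Subgroup.card_bot] at this
  omega

theorem K_ne_bot (h : Cx V K) : K ≠ ⊥ := by
  rintro rfl
  exact h.nonab ⟨⟨fun a b => Subsingleton.elim _ _⟩⟩

/-- the kernel of the conjugation action on `K` is trivial -/
theorem eq_one_of_comm (h : Cx V K) {g : G} (hg : ∀ k ∈ K, g * k = k * g) : g = 1 := by
  have : g ∈ centralizer (K : Set G) := mem_centralizer_iff.2 fun k hk => (hg k hk).symm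
  rwa [h.cent, mem_bot] at this

theorem pCore_eq_bot (h : Cx V K) : pCore 2 G = ⊥ :=
  H273.Sidki.core_eq_bot h.min h.elem h.V_ne_bot h.sidki h.bot

/-- An element of odd order lies in `K`. -/
theorem odd_mem (h : Cx V K) {x : G} (hx : Odd (orderOf x)) : x ∈ K := by
  haveI := h.norm
  exact H273.Sidki.mem_of_odd h.elem (h.sup ▸ mem_top x) hx

/-- every `g² ∈ K`: more precisely `G / K` is elementary abelian -/
theorem exists_mul (h : Cx V K) (g : G) : ∃ k ∈ K, ∃ v ∈ V, g = k * v := by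
  haveI := h.norm
  have hg : g ∈ K ⊔ V := h.sup ▸ mem_top g
  rw [Subgroup.mem_sup_of_normal_left] at hg
  obtain ⟨k, hk, v, hv, e⟩ := hg
  exact ⟨k, hk, v, hv, e.symm⟩

/-- (N) a proper subgroup containing `V` has `V ∩ O_2(H) ≠ 1` -/
theorem exists_O2 (h : Cx V K) {H : Subgroup G} (hV : V ≤ H) (hH : H ≠ ⊤) : ∃ w ∈ V, w ≠ 1 ∧ w ∈ O2 H :=
  H273.Sidki.inf_core_ne_bot h.min h.elem h.V_ne_bot (H273.Sidki.sidki_subgroupOf h.sidki hV) hV hH

/-- no nontrivial element of `V` is central -/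
theorem centralizer_ne_top (h : Cx V K) {v : G} (hv1 : v ≠ 1) : centralizer ({v} : Set G) ≠ ⊤ := by
  intro ht
  apply hv1
  apply h.eq_one_of_comm
  intro k hk
  have : k ∈ centralizer ({v} : Set G) := ht ▸ mem_top k
  exact (mem_centralizer_singleton_iff.1 this).symm

/-- every nontrivial element of `V` inverts a nontrivial element of odd order -/
theorem exists_inverted (h : Cx V K) {v : G} (hv : v ∈ V) (hv1 : v ≠ 1) :
    ∃ x : G, x ≠ 1 ∧ Odd (orderOf x) ∧ v * x * v⁻¹ = x⁻¹ := by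
  apply exists_odd_inverted v (h.sq hv)
  intro hp
  have h1 : (Subgroup.normalClosure {v} : Subgroup G) ≤ pCore 2 G :=
    le_sSup ⟨Subgroup.normalClosure_normal, hp⟩
  have h2 : v ∈ V ⊓ pCore 2 G := ⟨hv, h1 (Subgroup.subset_normalClosure (by simp))⟩
  rw [h.bot, Subgroup.mem_bot] at h2
  exact hv1 h2

/-- **(T1)** `V ∩ O_2(C_G(⟨v, x⟩)) ≠ 1` whenever `v ∈ V#` inverts `x` of odd order (for `x = 1`:
`V ∩ O_2(C_G(v)) ≠ 1`). -/
theorem t1 (h : Cx V K) {v x : G} (hv : v ∈ V) (hv1 : v ≠ 1) (hx : Odd (orderOf x))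
    (hinv : v * x * v⁻¹ = x⁻¹) :
    ∃ w ∈ V, w ≠ 1 ∧ Commute w x ∧ w ∈ O2 (centralizer ({v} : Set G) ⊓ centralizer ({x} : Set G)) := by
  set C := centralizer ({v} : Set G) ⊓ centralizer ({x} : Set G) with hC
  obtain ⟨h1, h2⟩ := S3013.result V h.elem h.V_ne_bot h.sidki v x hv hx hinv C hC
  have hCt : C ≠ ⊤ := by
    intro ht
    apply h.centralizer_ne_top hv1
    rw [eq_top_iff, ← ht, hC]
    exact inf_le_left
  obtain ⟨w, hw, hw1, hwO⟩ := H273.Sidki.inf_core_ne_bot h.min (V := C ⊓ V) (K := C)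
    (H273.Sidki.elemAb_mono h.elem inf_le_right) h1 h2 inf_le_left hCt
  have hwC : w ∈ C := (mem_inf.1 hw).1
  rw [hC] at hwC
  have hc : w * x = x * w := mem_centralizer_singleton_iff.1 (mem_inf.1 hwC).2
  exact ⟨w, (mem_inf.1 hw).2, hw1, hc, hwO⟩

/-- (T1), weak form: `C_V(x) ≠ 1`. -/
theorem t0 (h : Cx V K) {v x : G} (hv : v ∈ V) (hx : Odd (orderOf x)) (hinv : v * x * v⁻¹ = x⁻¹) :
    ∃ w ∈ V, w ≠ 1 ∧ Commute w x := h.sidki x v hv hx hinv

/-- the form used to kill a row: `v ∈ V#` inverts `x` odd and every `w ∈ V#` centralising `x` inverts some `y ≠ 1`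
odd of `C_G(⟨v, x⟩)`. -/
theorem false_of (h : Cx V K) {v x : G} (hv : v ∈ V) (hv1 : v ≠ 1) (hx : Odd (orderOf x))
    (hinv : v * x * v⁻¹ = x⁻¹)
    (hw : ∀ w ∈ V, w ≠ 1 → Commute w x →
      ∃ y : G, y ≠ 1 ∧ Odd (orderOf y) ∧ Commute v y ∧ Commute x y ∧ w * y * w⁻¹ = y⁻¹) : False := by
  obtain ⟨w, hwV, hw1, hwx, hwO⟩ := h.t1 hv hv1 hx hinv
  obtain ⟨y, hy1, hyo, hvy, hxy, hi⟩ := hw w hwV hw1 hwx
  exact hy1 (eq_one_of_inv hwO (mem_inf.2 ⟨mem_centralizer_singleton_iff.2 hvy.symm.eq,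
    mem_centralizer_singleton_iff.2 hxy.symm.eq⟩) hyo hi)

end Cx

/-! ### The reduction -/

/-- **S3010 from `Cx → False`.** -/
theorem S3010_of (H : ∀ {G : Type u} [Group G] [Finite G] (V K : Subgroup G), Cx V K → False)
    {G : Type u} [Group G] [Finite G] (V : Subgroup G) (hV : IsElementaryAbelian 2 V) (hV1 : V ≠ ⊥)
    (hS : IsSidkiPair V) : V ⊓ pCore 2 G ≠ ⊥ := by
  suffices hn : ∀ n : ℕ, H273.Sidki.Min.{u} n from
    hn (Nat.card G + 1) G V (Nat.lt_succ_self _) hV hV1 hS
  intro n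
  induction n with
  | zero => intro H' _ _ W h; omega
  | succ n ih =>
    intro G' _ _ W0 hcard hW0 hW01 hW0S
    have hmin : H273.Sidki.Min.{u} (Nat.card G') := by
      intro X _ _ U hX
      exact ih X U (by omega)
    suffices hm : ∀ m : ℕ, ∀ W : Subgroup G', Nat.card W < m → IsElementaryAbelian 2 W → W ≠ ⊥ → IsSidkiPair W →
        W ⊓ pCore 2 G' ≠ ⊥ from hm (Nat.card W0 + 1) W0 (Nat.lt_succ_self _) hW0 hW01 hW0S
    intro m
    induction m with
    | zero => intro W h; omega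
    | succ m ihm =>
      intro W hWm hW hW1 hWS hbot
      obtain ⟨hs, hna, hsup⟩ := H273.Sidki.main W hW hW1 hWS hbot hmin
      set K : Subgroup G' := generalizedFittingSubgroup G' with hK
      have hKn : K.Normal := Lib.GenFitting.genFitting_normal
      have hc : centralizer (K : Set G') = ⊥ := by
        have h1 : centralizer (K : Set G') ≤ K := Lib.GenFitting.centralizer_genFitting_le
        rw [eq_bot_iff]
        intro z hz
        rw [mem_bot]
        by_contra hz1
        have h2 : (center K) = ⊥ ∨ (center K) = ⊤ := hs.eq_bot_or_eq_top_of_normal _ inferInstance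
        have h3 : (⟨z, h1 hz⟩ : K) ∈ center K := by
          rw [mem_center_iff]
          intro g
          exact Subtype.ext (mem_centralizer_iff.1 hz g g.2)
        rcases h2 with h2 | h2
        · rw [h2, mem_bot] at h3
          exact hz1 (congrArg Subtype.val h3)
        · apply hna
          refine ⟨⟨fun a b => ?_⟩⟩
          have h4 : b ∈ center K := h2 ▸ mem_top b
          exact (mem_center_iff.1 h4 a)
      have h8 : 8 ≤ Nat.card W := by
        by_contra hlt
        push Not at hlt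
        have hp : IsPGroup 2 W := H273.Sidki.elemAb_isPGroup hW
        obtain ⟨k, hk⟩ := IsPGroup.iff_card.1 hp
        have hk2 : k ≤ 2 := by
          by_contra hk3
          push Not at hk3
          have : 2 ^ 3 ≤ 2 ^ k := Nat.pow_le_pow_right (by norm_num) hk3
          omega
        have h4 : Nat.card W ≤ 4 := by
          rw [hk]
          exact (Nat.pow_le_pow_right (by norm_num) hk2)
        exact S3011.result W hW hW1 hWS h4 hbot
      have hcore : pCore 2 G' = ⊥ := H273.Sidki.core_eq_bot hmin hW hW1 hWS hbot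
      exact H W K ⟨hW, hWS, h8, hKn, hs, hna, hc, by rw [sup_comm]; exact hsup, hbot, hmin,
        fun U hU hUe hU1 hUS => ihm U (by omega) hUe hU1 hUS (by rw [hcore, inf_bot_eq])⟩

end Cfsg.Agent.H282.SK
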