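import Cfsg.Agent.H282.SK.Good
import Cfsg.Agent.S2159
import Cfsg.Agent.S2126
import Cfsg.Agent.S2128
import Cfsg.Agent.S2129
import Cfsg.Agent.S2130
import Cfsg.Agent.H967.FaTw
import Cfsg.Agent.H933.SubTwist

/-!
# S3010 (Sidki pairs): elementary abelian 2-subgroups of outer automorphism groups (helper282)

`OutLe Y`: every elementary abelian 2-subgroup of `Aut Y` meeting `Inn Y` trivially has order at most 4.
-/

set_option autoImplicit false
set_option linter.unusedVariables false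

universe u v

open Subgroup Cfsg

namespace Cfsg.Agent.H282.SK

/-- every elementary abelian 2-subgroup of `Aut Y` meeting `Inn Y` trivially has order at most 4. -/
def OutLe (Y : Type u) [Group Y] : Prop :=
  ∀ A : Subgroup (MulAut Y), IsElementaryAbelian 2 A → (∀ α ∈ A, (∃ g, α = MulAut.conj g) → α = 1) → Nat.card A ≤ 4

theorem card_le_two_of_cyclic {Γ : Type*} [Group Γ] [Finite Γ] {C A : Subgroup Γ} (hC : IsCyclic C) (hAC : A ≤ C)
    (hA : ∀ a ∈ A, a * a = 1) : Nat.card A ≤ 2 := by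
  have h1 : IsCyclic (A.subgroupOf C) := inferInstance
  have h2 : Nat.card (A.subgroupOf C) = Nat.card A := Nat.card_congr (Subgroup.subgroupOfEquivOfLe hAC).toEquiv
  have h3 : Monoid.exponent (A.subgroupOf C) ∣ 2 := by
    apply Monoid.exponent_dvd_of_forall_pow_eq_one
    intro a
    apply Subtype.ext
    apply Subtype.ext
    have h4 := hA ((a : C) : Γ) a.2
    rw [pow_two]
    exact h4
  rw [IsCyclic.exponent_eq_card, h2] at h3
  exact Nat.le_of_dvd (by norm_num) h3

/-- an elementary abelian 2-subgroup of a group with a cyclic subgroup of odd index has order at most 2 -/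
theorem card_le_two_of_index {Γ : Type*} [Group Γ] [Finite Γ] {C A : Subgroup Γ} (hC : IsCyclic C)
    (hi : Odd C.index) (hA : IsElementaryAbelian 2 A) : Nat.card A ≤ 2 := by
  haveI : Fact (Nat.Prime 2) := ⟨Nat.prime_two⟩
  have hp : IsPGroup 2 A := H273.Sidki.elemAb_isPGroup hA
  have hfix : (MulAction.fixedPoints A (Γ ⧸ C)).Nonempty := by
    apply hp.nonempty_fixed_point_of_prime_not_dvd_card
    intro h
    rw [← Subgroup.index_eq_card] at h
    exact (Nat.not_even_iff_odd.2 hi) (even_iff_two_dvd.2 h)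
  obtain ⟨x, hx⟩ := hfix
  obtain ⟨g, rfl⟩ := QuotientGroup.mk_surjective x
  have h1 : ∀ a ∈ A, g⁻¹ * a * g ∈ C := by
    intro a ha
    have h2 := hx ⟨a, ha⟩
    have h3 : (QuotientGroup.mk (a * g) : Γ ⧸ C) = QuotientGroup.mk g := h2
    have h4 := QuotientGroup.eq.1 h3.symm
    simpa [mul_assoc] using h4
  have h5 : A.map (MulAut.conj g⁻¹).toMonoidHom ≤ C := by
    rintro _ ⟨a, ha, rfl⟩
    have := h1 a ha
    simpa using this
  have h6 := card_le_two_of_cyclic hC h5 (by
    rintro _ ⟨a, ha, rfl⟩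
    rw [← map_mul]
    have h7 := hA.2 a ha
    rw [pow_two] at h7
    rw [h7, map_one])
  have h8 : Nat.card (A.map (MulAut.conj g⁻¹).toMonoidHom) = Nat.card A :=
    Nat.card_congr (A.equivMapOfInjective _ (MulAut.conj g⁻¹).injective).toEquiv.symm
  omega

section Out

variable {Y : Type u} [Group Y] [Finite Y]

theorem finite_mulAut : Finite (MulAut Y) :=
  Finite.of_injective (fun α : MulAut Y => (α : Y → Y)) DFunLike.coe_injective

theorem finite_out : Finite (Out Y) := by
  haveI : Finite (MulAut Y) := finite_mulAut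
  exact inferInstanceAs (Finite (MulAut Y ⧸ Inn Y))

omit [Finite Y] in
theorem mk_inj {A : Subgroup (MulAut Y)} (h : ∀ α ∈ A, (∃ g, α = MulAut.conj g) → α = 1) {α : MulAut Y}
    (hα : α ∈ A) (h1 : QuotientGroup.mk' (Inn Y) α = 1) : α = 1 := by
  have h2 : α ∈ Inn Y := (QuotientGroup.eq_one_iff α).1 h1
  obtain ⟨g, hg⟩ := h2
  exact h α hα ⟨g, hg.symm⟩

omit [Finite Y] in
theorem card_map_out {A : Subgroup (MulAut Y)} (h : ∀ α ∈ A, (∃ g, α = MulAut.conj g) → α = 1) :
    Nat.card (A.map (QuotientGroup.mk' (Inn Y))) = Nat.card A := by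
  apply Nat.card_congr
  refine (Equiv.ofBijective (fun α : A => (⟨QuotientGroup.mk' (Inn Y) α, ⟨α, α.2, rfl⟩⟩ :
    A.map (QuotientGroup.mk' (Inn Y)))) ⟨?_, ?_⟩).symm
  · intro α β hαβ
    have h1 : QuotientGroup.mk' (Inn Y) (α : MulAut Y) = QuotientGroup.mk' (Inn Y) (β : MulAut Y) :=
      congrArg Subtype.val hαβ
    have h2 := mk_inj h (A.mul_mem α.2 (A.inv_mem β.2)) (by rw [map_mul, map_inv, h1, mul_inv_cancel])
    exact Subtype.ext (mul_inv_eq_one.1 h2)
  · rintro ⟨_, α, hα, rfl⟩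
    exact ⟨⟨α, hα⟩, rfl⟩

/-- a cyclic subgroup of odd index in `Out Y` -/
theorem outLe_of_index {C : Subgroup (Out Y)} (hC : IsCyclic C) (hi : Odd C.index) : OutLe Y := by
  haveI : Finite (Out Y) := finite_out
  intro A hA h
  rw [← card_map_out h]
  exact (card_le_two_of_index hC hi (H273.Sidki.elemAb_map hA (QuotientGroup.mk' (Inn Y)))).trans (by norm_num)

/-- `Out Y` of odd order -/
theorem outLe_of_odd (ho : Odd (Nat.card (Out Y))) : OutLe Y := by
  haveI : Finite (Out Y) := finite_out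
  apply outLe_of_index (C := ⊥)
  · infer_instance
  · rwa [Subgroup.index_bot]

/-- `|Out Y| ≤ 4` -/
theorem outLe_of_card_le (ho : Nat.card (Out Y) ≤ 4) : OutLe Y := by
  haveI : Finite (Out Y) := finite_out
  intro A hA h
  rw [← card_map_out h]
  exact (Subgroup.card_le_card_group _).trans ho

/-- the structure of `Out Y` as in S2159, with the diagonal part of odd order -/
theorem outLe_of_structure {D F : Subgroup (Out Y)} (hD : D.Normal) (hDo : Odd (Nat.card D)) (hF : IsCyclic F)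
    (hN : (D ⊔ F).Normal) (hi : (D ⊔ F).index = 1 ∨ (D ⊔ F).index = 2 ∨ (D ⊔ F).index = 6) : OutLe Y := by
  haveI : Finite (Out Y) := finite_out
  intro A hA h
  rw [← card_map_out h]
  have hB := H273.Sidki.elemAb_map hA (QuotientGroup.mk' (Inn Y))
  set B : Subgroup (Out Y) := A.map (QuotientGroup.mk' (Inn Y)) with hBdef
  clear_value B
  clear hBdef h hA
  set N : Subgroup (Out Y) := D ⊔ F with hNdef
  -- `|B| = |B N / N| |B ∩ N|`
  have h1 : Nat.card (B.map (QuotientGroup.mk' N)) * Nat.card (B ⊓ N : Subgroup (Out Y)) = Nat.card B := by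
    have h2 := Subgroup.card_mul_index ((QuotientGroup.mk' N).comp B.subtype).ker
    rw [Subgroup.index_ker] at h2
    have h3 : Nat.card ((QuotientGroup.mk' N).comp B.subtype).ker = Nat.card (B ⊓ N : Subgroup (Out Y)) := by
      apply Nat.card_congr
      refine ⟨fun x => ⟨((x : B) : Out Y), ⟨x.1.2, ?_⟩⟩, fun x => ⟨⟨x, x.2.1⟩, ?_⟩, fun x => rfl, fun x => rfl⟩
      · have h4 : QuotientGroup.mk' N ((x : B) : Out Y) = 1 := x.2
        exact (QuotientGroup.eq_one_iff _).1 h4
      · show QuotientGroup.mk' N (x : Out Y) = 1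
        exact (QuotientGroup.eq_one_iff _).2 x.2.2
    have h5 : ((QuotientGroup.mk' N).comp B.subtype).range = B.map (QuotientGroup.mk' N) := by
      rw [MonoidHom.range_comp, Subgroup.range_subtype]
    rw [h3, h5] at h2
    rw [mul_comm]
    exact h2
  have h2 : Nat.card (B ⊓ N : Subgroup (Out Y)) ≤ 2 := by
    have hc : IsCyclic (F.map (QuotientGroup.mk' D)) :=
      isCyclic_of_surjective _ (MonoidHom.subgroupMap_surjective (QuotientGroup.mk' D) F)
    have hle : (B ⊓ N).map (QuotientGroup.mk' D) ≤ F.map (QuotientGroup.mk' D) := by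
      refine (Subgroup.map_mono inf_le_right).trans ?_
      rw [hNdef, Subgroup.map_sup]
      refine sup_le ?_ le_rfl
      rw [QuotientGroup.map_mk'_self]
      exact bot_le
    have h3 := card_le_two_of_cyclic hc hle (by
      rintro _ ⟨a, ha, rfl⟩
      rw [← map_mul]
      have h7 := hB.2 a (mem_inf.1 ha).1
      rw [pow_two] at h7
      rw [h7, map_one])
    refine le_trans (le_of_eq ?_) h3
    apply Nat.card_congr
    refine Equiv.ofBijective (fun α : (B ⊓ N : Subgroup (Out Y)) => (⟨QuotientGroup.mk' D α, ⟨α, α.2, rfl⟩⟩ :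
      (B ⊓ N).map (QuotientGroup.mk' D))) ⟨?_, ?_⟩
    · intro α β hαβ
      have h4 : QuotientGroup.mk' D (α : Out Y) = QuotientGroup.mk' D (β : Out Y) :=
        congrArg Subtype.val hαβ
      have h5 : (α : Out Y) * (β : Out Y)⁻¹ ∈ D := by
        rw [← QuotientGroup.eq_one_iff, ← QuotientGroup.mk'_apply, map_mul, map_inv, h4, mul_inv_cancel]
      have h6 : (α : Out Y) * (β : Out Y)⁻¹ ∈ B := B.mul_mem (mem_inf.1 α.2).1 (B.inv_mem (mem_inf.1 β.2).1)
      have h7 := hB.2 _ h6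
      have h8 : Odd (orderOf ((α : Out Y) * (β : Out Y)⁻¹)) :=
        Odd.of_dvd_nat hDo (Subgroup.orderOf_dvd_natCard D h5)
      have h9 : (α : Out Y) * (β : Out Y)⁻¹ = 1 := by
        apply S3011.eq_one_of_odd_of_inv h8
        rw [eq_inv_iff_mul_eq_one, ← pow_two]
        exact h7
      exact Subtype.ext (mul_inv_eq_one.1 h9)
    · rintro ⟨_, α, hα, rfl⟩
      exact ⟨⟨α, hα⟩, rfl⟩
  have h3 : Nat.card (B.map (QuotientGroup.mk' N)) ≤ 2 := by
    have h4 : Nat.card (B.map (QuotientGroup.mk' N)) ∣ N.index := by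
      rw [Subgroup.index_eq_card]
      exact Subgroup.card_subgroup_dvd_card _
    have hp : IsPGroup 2 (B.map (QuotientGroup.mk' N)) := (H273.Sidki.elemAb_isPGroup hB).map _
    haveI : Fact (Nat.Prime 2) := ⟨Nat.prime_two⟩
    obtain ⟨k, hk⟩ := IsPGroup.iff_card.1 hp
    have h5 : N.index ∣ 6 := by
      rcases hi with hi | hi | hi
      · rw [hi]; norm_num
      · rw [hi]; norm_num
      · rw [hi]
    have h6 : 2 ^ k ∣ 6 := by
      rw [← hk]
      exact h4.trans h5
    have hk2 : k ≤ 1 := by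
      by_contra hcon
      push Not at hcon
      have h7 : 2 ^ 2 ∣ 6 := (pow_dvd_pow 2 hcon).trans h6
      norm_num at h7
    rw [hk]
    calc 2 ^ k ≤ 2 ^ 1 := Nat.pow_le_pow_right (by norm_num) hk2
      _ = 2 := by norm_num
  rw [← h1]
  calc Nat.card (B.map (QuotientGroup.mk' N)) * Nat.card (B ⊓ N : Subgroup (Out Y)) ≤ 2 * 2 :=
        Nat.mul_le_mul h3 h2
    _ = 4 := by norm_num

omit [Finite Y] in
/-- transport of `OutLe` -/
theorem OutLe.congr {Y' : Type v} [Group Y'] (e : Y ≃* Y') (h : OutLe Y) : OutLe Y' := by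
  intro A hA hc
  have h1 := h (A.map (MulAut.congr e).symm.toMonoidHom) (H273.Sidki.elemAb_map hA _) (by
    rintro _ ⟨α, hα, rfl⟩ ⟨g, hg⟩
    have h2 : α = MulAut.conj (e g) := by
      have h3 : α = MulAut.congr e (MulAut.conj g) := by
        rw [← hg]
        exact ((MulAut.congr e).apply_symm_apply α).symm
      rw [h3]
      apply MulEquiv.ext
      intro z
      simp only [MulAut.congr_apply, MulEquiv.trans_apply, MulAut.conj_apply, map_mul, map_inv,
        MulEquiv.apply_symm_apply]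
    rw [hc α hα ⟨_, h2⟩, map_one])
  have h3 : Nat.card (A.map (MulAut.congr e).symm.toMonoidHom) = Nat.card A :=
    Nat.card_congr (A.equivMapOfInjective _ (MulAut.congr e).symm.injective).toEquiv.symm
  omega

end Out

/-- `V ≤ K` if `|Out K|` is odd -/
theorem Cx.le_of_odd_out {G : Type u} [Group G] [Finite G] {V K : Subgroup G} (h : Cx V K) {Y : Type v} [Group Y]
    [Finite Y] (e : K ≃* Y) (ho : Odd (Nat.card (Out Y))) : V ≤ K := by
  haveI : Finite (Out Y) := finite_out
  obtain ⟨φ, hφ, hφK, hφg⟩ := h.exists_toAut e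
  intro w hw
  have h1 : (QuotientGroup.mk' (Inn Y) (φ w)) ^ 2 = 1 := by
    rw [← map_pow, ← map_pow, h.elem.2 w hw, map_one, map_one]
  have h2 : orderOf (QuotientGroup.mk' (Inn Y) (φ w)) ∣ 2 := orderOf_dvd_of_pow_eq_one h1
  have h3 : orderOf (QuotientGroup.mk' (Inn Y) (φ w)) ∣ Nat.card (Out Y) := orderOf_dvd_natCard _
  have h4 := orderOf_eq_one_iff.1 (Nat.eq_one_of_dvd_coprimes ((Nat.coprime_two_left).2 ho) h2 h3)
  obtain ⟨g, hg⟩ : φ w ∈ Inn Y := (QuotientGroup.eq_one_iff _).1 h4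
  obtain ⟨k, rfl⟩ := e.surjective g
  have h5 : φ w = φ k := by rw [hφK]; exact hg.symm
  rw [hφ h5]
  exact k.2

/-! ### The Chevalley groups in characteristic 2 -/

open Cfsg.Agent in
theorem outLe_chev {F : Type u} [Field F] [Finite F] [CharP F 2] (D : Cfsg.Lie.ChevalleyDatum)
    (hD : D ∈ [Cfsg.Lie.chevG2, Cfsg.Lie.chevB2, Cfsg.Lie.chevD4, Cfsg.Lie.chevF4, Cfsg.Lie.chevE6,
      Cfsg.Lie.chevE7, Cfsg.Lie.chevE8]) [Finite ↥(D.group F)] : OutLe ↥(D.group F) := by
  classical
  haveI := Fintype.ofFinite F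
  obtain ⟨h1, h2, h3, h4, h5⟩ := S2159.result (F := F) D hD _ _ rfl rfl
  refine outLe_of_structure h1 ?_ h3 h4 (h5.imp id fun h => h.imp id fun h => h.1)
  -- the diagonal part has odd order
  have hodd : Odd (Nat.card F - 1) := by
    obtain ⟨n, hn⟩ := FiniteField.card F 2
    rw [Nat.card_eq_fintype_card, hn.2]
    exact Nat.Even.sub_odd (Nat.one_le_pow _ _ (by norm_num)) (even_two.pow_of_ne_zero n.ne_zero) odd_one
  have hpow : ∀ x ∈ (Subgroup.closure {φ : MulAut ↥(D.group F) | D.IsDiagonalAut φ}).map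
      (QuotientGroup.mk' (Cfsg.Inn ↥(D.group F))), x ^ (Nat.card F - 1) = 1 := by
    rintro _ ⟨φ, hφ, rfl⟩
    rw [H79.OutChev.closure_isDiagonalAut (hD := hD) (H79.DiagAuts.diagFacts hD F)] at hφ
    obtain ⟨c, hc⟩ := hφ
    have h6 : ∀ n : ℕ, H79.OutChev.IsD hD (c ^ n) (φ ^ n) := by
      intro n
      induction n with
      | zero => rw [pow_zero, pow_zero]; exact H79.OutChev.IsD.one hD
      | succ n ih => rw [pow_succ, pow_succ]; exact ih.mul hc
    have h7 : c ^ (Nat.card F - 1) = 1 := by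
      funext i
      rw [Pi.pow_apply, Pi.one_apply, ← Nat.card_units]
      exact pow_card_eq_one'
    have h8 := h6 (Nat.card F - 1)
    rw [h7] at h8
    rw [← map_pow, h8.unique (H79.OutChev.IsD.one hD), map_one]
  by_contra hcon
  rw [Nat.not_odd_iff_even, even_iff_two_dvd] at hcon
  haveI : Fact (Nat.Prime 2) := ⟨Nat.prime_two⟩
  haveI : Finite (Out ↥(D.group F)) := finite_out
  obtain ⟨x, hx⟩ := exists_prime_orderOf_dvd_card' 2 hcon
  have h9 := hpow x x.2
  have h10 : orderOf x ∣ Nat.card F - 1 := by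
    apply orderOf_dvd_of_pow_eq_one
    exact Subtype.ext h9
  rw [hx] at h10
  exact (Nat.not_even_iff_odd.2 hodd) (even_iff_two_dvd.2 h10)

/-! ### The twisted groups -/

open Cfsg.Agent Cfsg.Agent.H967.CopMat Cfsg.Agent.H967.CopTw Cfsg.Agent.H967.CopD4 Cfsg.Agent.H967.FaTw in
theorem outLe_3d4 {K : Type u} [Field K] [Fintype K] (p f : ℕ) [Fact p.Prime] [CharP K p]
    (hK : Fintype.card K = p ^ (3 * f)) (hf : 1 ≤ f) [Finite ↥(Cfsg.Lie.twistedD4 K (p ^ f))] :
    OutLe ↥(Cfsg.Lie.twistedD4 K (p ^ f)) := by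
  have hq : IsPrimePow (p ^ f) := (Fact.out : p.Prime).isPrimePow.pow (by omega)
  have hK' : Fintype.card K = (p ^ f) ^ 3 := by rw [hK, ← pow_mul, mul_comm]
  have hout := S2129.result (K := K) p f hK hf
  let j : (K ≃+* K) →* Cfsg.Out ↥(Cfsg.Lie.twistedD4 K (p ^ f)) :=
    (QuotientGroup.mk' (Cfsg.Inn _)).comp (fieldAut (stab_d4 (p ^ f)))
  have hj : Function.Injective j := by
    rw [injective_iff_map_eq_one]
    intro σ hσ
    by_contra h1
    exact not_inner_d4 hq hK' σ h1 ((QuotientGroup.eq_one_iff _).1 hσ)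
  have hc : IsCyclic (K ≃+* K) := H933.SubTwist.isCyclic_ringAut (show 1 ≤ 3 * f by omega) hK
  have hcard : Nat.card (K ≃+* K) = 3 * f := Lib.FieldAutCard.card_ringAut (by omega) hK
  have hcard' : Nat.card j.range = 3 * f := by
    rw [← hcard]
    exact Nat.card_congr (MonoidHom.ofInjective hj).toEquiv.symm
  refine outLe_of_index (C := j.range) (isCyclic_of_surjective _ j.rangeRestrict_surjective) ?_
  have h1 := j.range.card_mul_index
  rw [hcard', hout] at h1
  have h2 : j.range.index = 1 := by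
    apply Nat.eq_of_mul_eq_mul_left (show 0 < 3 * f by omega)
    rw [h1, mul_one]
  rw [h2]
  exact odd_one

open Cfsg.Agent Cfsg.Agent.H967.CopMat Cfsg.Agent.H967.CopTw Cfsg.Agent.H967.CopD4 Cfsg.Agent.H967.FaTw in
theorem outLe_2e6 {K : Type u} [Field K] [Fintype K] (p f : ℕ) [Fact p.Prime] [CharP K p]
    (hK : Fintype.card K = p ^ (2 * f)) (hf : 1 ≤ f) [Finite ↥(Cfsg.Lie.twistedE6 K (p ^ f))] :
    OutLe ↥(Cfsg.Lie.twistedE6 K (p ^ f)) := by
  have hq : IsPrimePow (p ^ f) := (Fact.out : p.Prime).isPrimePow.pow (by omega)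
  have hK' : Fintype.card K = (p ^ f) ^ 2 := by rw [hK, ← pow_mul, mul_comm]
  have hout := S2130.result (K := K) p f hK hf
  let j : (K ≃+* K) →* Cfsg.Out ↥(Cfsg.Lie.twistedE6 K (p ^ f)) :=
    (QuotientGroup.mk' (Cfsg.Inn _)).comp (fieldAut (stab_e6 (p ^ f)))
  have hj : Function.Injective j := by
    rw [injective_iff_map_eq_one]
    intro σ hσ
    by_contra h1
    exact not_inner_e6 hq hK' σ h1 ((QuotientGroup.eq_one_iff _).1 hσ)
  have hc : IsCyclic (K ≃+* K) := H933.SubTwist.isCyclic_ringAut (show 1 ≤ 2 * f by omega) hK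
  have hcard : Nat.card (K ≃+* K) = 2 * f := Lib.FieldAutCard.card_ringAut (by omega) hK
  have hcard' : Nat.card j.range = 2 * f := by
    rw [← hcard]
    exact Nat.card_congr (MonoidHom.ofInjective hj).toEquiv.symm
  refine outLe_of_index (C := j.range) (isCyclic_of_surjective _ j.rangeRestrict_surjective) ?_
  have h1 := j.range.card_mul_index
  rw [hcard', hout] at h1
  have h2 : j.range.index = Nat.gcd 3 (p ^ f + 1) := by
    apply Nat.eq_of_mul_eq_mul_left (show 0 < 2 * f by omega)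
    rw [h1]
    ring
  rw [h2]
  exact Odd.of_dvd_nat (by decide) (Nat.gcd_dvd_left 3 _)

theorem outLe_sz {F : Type u} [Field F] [Fintype F] {m : ℕ} (hm : 1 ≤ m)
    (hF : Fintype.card F = 2 ^ (2 * m + 1)) [Finite ↥(Cfsg.Lie.Sz F (2 ^ (m + 1)))] :
    OutLe ↥(Cfsg.Lie.Sz F (2 ^ (m + 1))) := by
  apply outLe_of_odd
  rw [Cfsg.Agent.S2126.result (F := F) hm hF]
  exact ⟨m, rfl⟩

theorem outLe_2f4 {K : Type u} [Field K] [Fintype K] {m : ℕ} (hm : 1 ≤ m)
    (hK : Fintype.card K = 2 ^ (2 * m + 1)) [Finite ↥(Cfsg.Lie.twistedF4 K (2 ^ m))] :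
    OutLe ↥(Cfsg.Lie.twistedF4 K (2 ^ m)) := by
  apply outLe_of_odd
  rw [Cfsg.Agent.S2128.result (K := K) hm hK]
  exact ⟨m, rfl⟩

end Cfsg.Agent.H282.SK
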