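import Cfsg.Agent.H282.SK.Out
import Cfsg.Agent.SignalizersComponents.BalEndSz

/-!
# S3010 (Sidki pairs): the Suzuki groups (helper282)
-/

set_option autoImplicit false

universe u v

open Subgroup Cfsg

namespace Cfsg.Agent.H282.SK

/-- `V ≤ K` and all centralisers of involutions of `K` are 2-groups: impossible. -/
theorem Cx.false_of_cit {G : Type u} [Group G] [Finite G] {V K : Subgroup G} (h : Cx V K) (hV : V ≤ K)
    (hcit : ∀ t : K, orderOf t = 2 → IsPGroup 2 ↥(Subgroup.centralizer ({t} : Set K))) : False := by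
  obtain ⟨v, x, ⟨hv, hv1, hx1, hxo, hxi⟩, -⟩ := h.exists_minPair
  obtain ⟨w, hw, hw1, hwx⟩ := h.t0 hv hxo hxi
  have hxK := h.odd_mem hxo
  have ho : orderOf (⟨w, hV hw⟩ : K) = 2 := by
    apply orderOf_eq_prime
    · apply Subtype.ext
      exact h.elem.2 w hw
    · intro h1
      exact hw1 (congrArg Subtype.val h1)
  obtain ⟨k, hk⟩ := hcit _ ho ⟨⟨x, hxK⟩, mem_centralizer_singleton_iff.2 (Subtype.ext hwx.symm.eq)⟩
  have hk' : x ^ 2 ^ k = 1 := congrArg Subtype.val (congrArg Subtype.val hk)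
  apply hx1
  apply orderOf_eq_one_iff.1
  exact Nat.Coprime.eq_one_of_dvd ((Nat.Coprime.pow_right k ((Nat.coprime_two_right).2 hxo)))
    (orderOf_dvd_of_pow_eq_one hk')

/-- **The Suzuki groups.** -/
theorem dead_sz : DeadS.{u} (fun K _ => Cfsg.Lie.IsoSuzuki K) := by
  intro G _ _ V K h hK
  refine h.false_of_cit ?_ fun t ht => SignalizersComponents.BalEndSz.isPGroup_centralizer_suzuki hK ht
  obtain ⟨F, _, _, m, hm, hF, ⟨e⟩⟩ := hK
  haveI : Finite ↥(Cfsg.Lie.Sz F (2 ^ (m + 1))) := Finite.of_equiv _ e.toEquiv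
  apply h.le_of_odd_out e
  rw [Cfsg.Agent.S2126.result (F := F) hm hF]
  exact ⟨m, rfl⟩

end Cfsg.Agent.H282.SK
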