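import Cfsg.Agent.H282.SK.DomGood
import Cfsg.Agent.H282.SK.Out
import Cfsg.Agent.H83.TwDFour
import Cfsg.Agent.BiChar.TwDFour
import Cfsg.Agent.H731.SK.Rows

/-!
# S3010 (Sidki pairs): `³D₄(q)`, `q` even (helper282)
-/

set_option autoImplicit false
set_option linter.unusedSectionVars false

universe u

namespace Cfsg.Agent.H282.SK.TwDFour

open CoxeterSystem Cfsg.Agent.ChevalleyStructure.CoxeterGeom Cfsg.Agent.Tits.Core
  Cfsg.Agent.Tits.RootComb Cfsg.Agent.Tits.Exchange Cfsg.Agent.Nodes.Reps Cfsg.Agent.Nodes.BNOf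
  Cfsg.Agent.Nodes.StabComb Cfsg.Agent.Nodes.Bruhat Cfsg.Agent.Nodes.OppDec Cfsg.Agent.Nodes.LeviDec
  Cfsg.Agent.Nodes.NormX Cfsg.Agent.Nodes.Coroot Cfsg.Agent.KFacts.RgdFilt Cfsg.Agent.KFacts.RgdBorelTits
  Cfsg.Agent.OddHalf.D4.StarLoc Cfsg.Agent.H282.SK Cfsg.Agent.H282.SK.Dom
open Cfsg.Agent.Tits.Roots hiding ht
open Cfsg.Lie Cfsg.Agent.ChevalleyStructure Cfsg.Agent.Nodes.RGDFold Cfsg.Agent.Nodes.RGDFoldSL
open Cfsg.Agent.Nodes.RGDTwD4 (J foldData foldGrp hp isCartan X T n)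
open Cfsg.Agent.ChevalleyStructure.SL2Hom (up lo)
open Cfsg.Agent.BiChar.TwDFour (cs Ph mem_X Ph_wS range_Ph)

/-! ### The root system -/

theorem tab : ∀ r < 24, (V chevD4 J r 0, V chevD4 J r 1) ∈
    [((1 : ℤ), (0 : ℤ)), (0, 1), (1, 1), (1, 2), (1, 3), (2, 3), (-1, 0), (0, -1), (-1, -1), (-1, -2), (-1, -3),
      (-2, -3)] := by decide +kernel

theorem nroots : chevD4.nroots = 24 := by decide +kernel

theorem coords {z : Fin 2 → ℤ} (hz : IsRoot cs isCartan z) : (z 0, z 1) ∈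
    [((1 : ℤ), (0 : ℤ)), (0, 1), (1, 1), (1, 2), (1, 3), (2, 3), (-1, 0), (0, -1), (-1, -1), (-1, -2), (-1, -3),
      (-2, -3)] := by
  obtain ⟨r, hr, rfl⟩ := (foldData.isRoot_iff hp.checked
    (fun i r hr => wp_lt hp _ hr) z).1 hz
  exact tab r (by rw [← nroots]; exact hr)

theorem rep0 (x : Fin 2 → ℤ) : rep cs isCartan (cs.simple 0) x = ![x 1 - x 0, x 1] := by
  rw [rep_simple_eq]
  funext k
  fin_cases k
  · simp [pairing, Nodes.RGDTwD4.A, Fin.sum_univ_two, sr]; ring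
  · simp [pairing, Nodes.RGDTwD4.A, Fin.sum_univ_two, sr]

theorem rep1 (x : Fin 2 → ℤ) : rep cs isCartan (cs.simple 1) x = ![x 0, 3 * x 0 - x 1] := by
  rw [rep_simple_eq]
  funext k
  fin_cases k
  · simp [pairing, Nodes.RGDTwD4.A, Fin.sum_univ_two, sr]
  · simp [pairing, Nodes.RGDTwD4.A, Fin.sum_univ_two, sr]; ring

theorem rep_two (x : Fin 2 → ℤ) :
    rep cs isCartan (cs.simple 0 * cs.simple 1) x = ![2 * x 0 - x 1, 3 * x 0 - x 1] := by
  rw [rep_mul_apply, rep1, rep0]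
  funext k
  fin_cases k
  · simp; ring
  · simp

theorem rep_two' (x : Fin 2 → ℤ) :
    rep cs isCartan (cs.simple 1 * cs.simple 0) x = ![x 1 - x 0, 2 * x 1 - 3 * x 0] := by
  rw [rep_mul_apply, rep0, rep1]
  funext k
  fin_cases k
  · simp
  · simp; ring

theorem ge_four {z : Fin 2 → ℤ} (hz : IsRoot cs isCartan z) (h4 : 4 ≤ z 0 + z 1) :
    z = ![1, 3] ∨ z = ![2, 3] := by
  have h1 := coords hz
  simp only [List.mem_cons, Prod.mk.injEq, List.not_mem_nil, or_false] at h1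
  rcases h1 with ⟨h1, h2⟩ | ⟨h1, h2⟩ | ⟨h1, h2⟩ | ⟨h1, h2⟩ | ⟨h1, h2⟩ | ⟨h1, h2⟩ | ⟨h1, h2⟩ | ⟨h1, h2⟩ | ⟨h1, h2⟩ |
    ⟨h1, h2⟩ | ⟨h1, h2⟩ | ⟨h1, h2⟩ <;> try (exfalso; omega)
  · left; funext k; fin_cases k
    · exact h1
    · exact h2
  · right; funext k; fin_cases k
    · exact h1
    · exact h2

theorem pos_ge {z : Fin 2 → ℤ} (hz : z ∈ RGD.Pos cs isCartan) : 1 ≤ z 0 + z 1 ∧ 0 ≤ z 0 ∧ 0 ≤ z 1 := by
  have h1 := coords hz.1
  have h2 := hz.2 0
  have h3 := hz.2 1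
  simp only [Pi.zero_apply] at h2 h3
  simp only [List.mem_cons, Prod.mk.injEq, List.not_mem_nil, or_false] at h1
  rcases h1 with ⟨h1, h2⟩ | ⟨h1, h2⟩ | ⟨h1, h2⟩ | ⟨h1, h2⟩ | ⟨h1, h2⟩ | ⟨h1, h2⟩ | ⟨h1, h2⟩ | ⟨h1, h2⟩ | ⟨h1, h2⟩ |
    ⟨h1, h2⟩ | ⟨h1, h2⟩ | ⟨h1, h2⟩ <;> omega

theorem isRoot_13 : IsRoot cs isCartan ![1, 3] := by
  refine ⟨cs.simple 1, 0, ?_⟩
  rw [rep1]
  funext k
  fin_cases k <;> simp [sr]

theorem isRoot_12 : IsRoot cs isCartan ![1, 2] := by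
  refine ⟨cs.simple 1 * cs.simple 0, 1, ?_⟩
  rw [rep_two']
  funext k
  fin_cases k <;> simp [sr]

theorem isRoot_23 : IsRoot cs isCartan ![2, 3] := by
  refine ⟨cs.simple 0 * cs.simple 1, 0, ?_⟩
  rw [rep_two]
  funext k
  fin_cases k <;> simp [sr]

/-- the second coordinate modulo 3 -/
theorem orb_mod (w : CoxeterMatrix.G₂.Group) (x : Fin 2 → ℤ) :
    (3 : ℤ) ∣ rep cs isCartan w x 1 ↔ (3 : ℤ) ∣ x 1 := by
  obtain ⟨ω, rfl⟩ := cs.wordProd_surjective w
  induction ω with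
  | nil => rw [wordProd_nil, map_one, Module.End.one_apply]
  | cons i ω ih =>
    rw [wordProd_cons, rep_mul_apply, ← ih]
    generalize rep cs isCartan (cs.wordProd ω) x = y
    have hi : i = 0 ∨ i = 1 := by fin_cases i <;> simp
    rcases hi with rfl | rfl
    · rw [rep0]; simp
    · rw [rep1]
      show (3 : ℤ) ∣ 3 * y 0 - y 1 ↔ _
      omega

theorem ib_coord {x y z : Fin 2 → ℤ} (hz : IB cs isCartan x y z) :
    ∃ i j : ℤ, 0 < i ∧ 0 < j ∧ z 0 = i * x 0 + j * y 0 ∧ z 1 = i * x 1 + j * y 1 := by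
  obtain ⟨-, i, j, hi, hj, rfl⟩ := hz
  exact ⟨i, j, hi, hj, by simp, by simp⟩

theorem dmL : Dm cs isCartan {![2, 3]} ![2, 3] where
  pos := by
    rintro _ rfl
    refine ⟨isRoot_23, fun k => ?_⟩
    fin_cases k <;> simp
  mem := rfl
  up := by
    rintro x hx _ rfl hxy z hz
    exfalso
    obtain ⟨i, j, hi, hj, h0, h1⟩ := ib_coord hz
    obtain ⟨h2, h3, h4⟩ := pos_ge hx
    have h5 : (![2, 3] : Fin 2 → ℤ) 0 = 2 := rfl
    have h6 : (![2, 3] : Fin 2 → ℤ) 1 = 3 := rfl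
    rw [h5] at h0
    rw [h6] at h1
    have h7 : 6 ≤ z 0 + z 1 := by nlinarith
    rcases ge_four hz.1 (by omega) with rfl | rfl
    · simp at h7
    · simp at h7
  orb := fun w hw => hw
  dom := by
    intro i
    fin_cases i <;> simp [pairing, Nodes.RGDTwD4.A, Fin.sum_univ_two]

theorem dmS : Dm cs isCartan {![1, 2], ![1, 3], ![2, 3]} ![1, 2] where
  pos := by
    rintro _ (rfl | rfl | rfl)
    · refine ⟨isRoot_12, fun k => ?_⟩
      fin_cases k <;> simp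
    · refine ⟨isRoot_13, fun k => ?_⟩
      fin_cases k <;> simp
    · refine ⟨isRoot_23, fun k => ?_⟩
      fin_cases k <;> simp
  mem := by simp
  up := by
    intro x hx y hy hxy z hz
    obtain ⟨i, j, hi, hj, h0, h1⟩ := ib_coord hz
    obtain ⟨h2, h3, h4⟩ := pos_ge hx
    have h5 : 1 ≤ y 0 ∧ 2 ≤ y 1 := by
      rcases hy with rfl | rfl | rfl
      · simp
      · simp
      · simp
    have h7 : 4 ≤ z 0 + z 1 := by nlinarith
    rcases ge_four hz.1 h7 with rfl | rfl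
    · refine ⟨by simp, fun e => ?_⟩
      have := congrFun e 1
      simp at this
    · refine ⟨by simp, fun e => ?_⟩
      have := congrFun e 1
      simp at this
  orb := by
    intro w hw
    have h1 := orb_mod w ![1, 2]
    rcases hw with hw | hw | hw
    · exact hw
    · exfalso
      rw [hw] at h1
      have h2 : (3 : ℤ) ∣ (![1, 3] : Fin 2 → ℤ) 1 := ⟨1, by simp⟩
      have h3 : (3 : ℤ) ∣ 2 := h1.1 h2
      omega
    · exfalso
      rw [hw] at h1
      have h2 : (3 : ℤ) ∣ (![2, 3] : Fin 2 → ℤ) 1 := ⟨1, by simp⟩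
      have h3 : (3 : ℤ) ∣ 2 := h1.1 h2
      omega
  dom := by
    intro i
    fin_cases i <;> simp [pairing, Nodes.RGDTwD4.A, Fin.sum_univ_two]

theorem orthL : orth cs isCartan ![2, 3] = {1} := by
  ext i
  rw [mem_orth]
  fin_cases i <;> simp [pairing, Nodes.RGDTwD4.A, Fin.sum_univ_two]

theorem orthS : orth cs isCartan ![1, 2] = {0} := by
  ext i
  rw [mem_orth]
  fin_cases i <;> simp [pairing, Nodes.RGDTwD4.A, Fin.sum_univ_two]

theorem negL (x : Fin 2 → ℤ) : rep cs isCartan (cs.simple 1 *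
    ((cs.simple 0 * cs.simple 1) * cs.simple 0 * (cs.simple 0 * cs.simple 1)⁻¹)) x = -x := by
  have e : cs.simple 1 * ((cs.simple 0 * cs.simple 1) * cs.simple 0 * (cs.simple 0 * cs.simple 1)⁻¹) =
      (cs.simple 1 * cs.simple 0) * ((cs.simple 1 * cs.simple 0) * (cs.simple 1 * cs.simple 0)) := by
    rw [mul_inv_rev, cs.inv_simple, cs.inv_simple]; group
  rw [e, rep_mul_apply, rep_two', rep_mul_apply, rep_two', rep_two']
  funext k
  fin_cases k
  · simp; ring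
  · simp; ring

theorem negS (x : Fin 2 → ℤ) : rep cs isCartan (cs.simple 0 *
    ((cs.simple 1 * cs.simple 0) * cs.simple 1 * (cs.simple 1 * cs.simple 0)⁻¹)) x = -x := by
  have e : cs.simple 0 * ((cs.simple 1 * cs.simple 0) * cs.simple 1 * (cs.simple 1 * cs.simple 0)⁻¹) =
      (cs.simple 0 * cs.simple 1) * ((cs.simple 0 * cs.simple 1) * (cs.simple 0 * cs.simple 1)) := by
    rw [mul_inv_rev, cs.inv_simple, cs.inv_simple]; group
  rw [e, rep_mul_apply, rep_two, rep_mul_apply, rep_two, rep_two]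
  funext k
  fin_cases k
  · simp; ring
  · simp; ring

theorem rootsL {x : Fin 2 → ℤ} (hx : x ∈ RootsJ cs isCartan {1}) : x 0 = 0 ∧ (x 1 = 1 ∨ x 1 = -1) := by
  have h0 := hx.2 0 (by simp)
  have h1 := coords hx.1
  simp only [List.mem_cons, Prod.mk.injEq, List.not_mem_nil, or_false] at h1
  omega

theorem rootsS {x : Fin 2 → ℤ} (hx : x ∈ RootsJ cs isCartan {0}) : x 1 = 0 ∧ (x 0 = 1 ∨ x 0 = -1) := by
  have h0 := hx.2 1 (by simp)
  have h1 := coords hx.1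
  simp only [List.mem_cons, Prod.mk.injEq, List.not_mem_nil, or_false] at h1
  omega

theorem ibL {x z : Fin 2 → ℤ} (hx : x ∈ RootsJ cs isCartan {1}) : ¬ IB cs isCartan x ![2, 3] z := by
  intro hz
  obtain ⟨h0, h1⟩ := rootsL hx
  obtain ⟨i, j, hi, hj, e0, e1⟩ := ib_coord hz
  have h5 : (![2, 3] : Fin 2 → ℤ) 0 = 2 := rfl
  have h6 : (![2, 3] : Fin 2 → ℤ) 1 = 3 := rfl
  rw [h5, h0] at e0
  rw [h6] at e1
  have h2 := coords hz.1
  simp only [List.mem_cons, Prod.mk.injEq, List.not_mem_nil, or_false] at h2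
  rcases h1 with h1 | h1 <;> rw [h1] at e1 <;> omega

theorem ibS {x z : Fin 2 → ℤ} (hx : x ∈ RootsJ cs isCartan {0}) : ¬ IB cs isCartan x ![1, 2] z := by
  intro hz
  obtain ⟨h0, h1⟩ := rootsS hx
  obtain ⟨i, j, hi, hj, e0, e1⟩ := ib_coord hz
  have h5 : (![1, 2] : Fin 2 → ℤ) 0 = 1 := rfl
  have h6 : (![1, 2] : Fin 2 → ℤ) 1 = 2 := rfl
  rw [h5] at e0
  rw [h6, h0] at e1
  have h2 := coords hz.1
  simp only [List.mem_cons, Prod.mk.injEq, List.not_mem_nil, or_false] at h2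
  rcases h1 with h1 | h1 <;> rw [h1] at e0 <;> omega

/-- commuting root groups -/
theorem comm_of_not_ib {Y : Type*} [Group Y] {X : (Fin 2 → ℤ) → Subgroup Y} (hI : IntComm cs isCartan X)
    {x a : Fin 2 → ℤ} (hx : IsRoot cs isCartan x) (ha : IsRoot cs isCartan a) (hne : x ≠ a) (hne' : x ≠ -a)
    (h : ∀ z, ¬ IB cs isCartan x a z) : ∀ g ∈ X x, ∀ z ∈ X a, g * z = z * g := by
  intro g hg z hz
  have h1 := hI x a hx ha hne hne' g hg z hz
  have h2 : (FS X {z | IB cs isCartan x a z} : Subgroup Y) ≤ ⊥ := FS_le fun z hz => absurd hz (h z)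
  have h3 := Subgroup.mem_bot.1 (h2 h1)
  exact (commutatorElement_eq_one_iff_mul_comm.1 h3)

variable {K : Type} [Field K] [Fintype K] [CharP K 2] {q : ℕ} {φ : K →+* K} (hφ : ∀ x, φ x = x ^ q)
  (hK : Fintype.card K = q ^ 3)

include hφ hK in
/-- the Chevalley commutator formula -/
theorem hI : IntComm cs isCartan (X φ q : (Fin 2 → ℤ) → Subgroup ↥(twistedD4 K q)) := by
  have : Fact (Nat.Prime 2) := ⟨Nat.prime_two⟩
  exact OddHalf.D4.StarTw.intComm_sub cs isCartan foldData (foldGrp hφ (D4Fixed.twisted_le_fix hK hφ)) 2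

theorem finiteW : Finite CoxeterMatrix.G₂.Group :=
  Cfsg.Agent.Nodes.RGDFold.finite_W (hp := hp) cs isCartan foldData

include hK in
theorem rg : RGD cs isCartan 2 (T K q) (n hφ) (X φ q) := by
  have : Fact (Nat.Prime 2) := ⟨Nat.prime_two⟩
  exact Nodes.RGDTwD4.rgd cs hK hφ 2

include hK in
theorem nj (j : Fin 2) : n hφ j ∈ (X φ q (sr j) ⊔ X φ q (-sr j) : Subgroup ↥(twistedD4 K q)) := by
  have hle : twistedD4 K q ≤ D4Fixed.fix φ := D4Fixed.twisted_le_fix hK hφ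
  rw [← range_Ph hφ hle hK j, ← Ph_wS hφ hle j]
  exact ⟨_, rfl⟩

theorem nodeL : Node (rg hφ hK) {![2, 3]} ![2, 3] 0 1 (cs.simple 0 * cs.simple 1) where
  dm := dmL
  orth := orthL
  comm := by
    intro x hx
    refine comm_of_not_ib (hI hφ hK) hx.1 isRoot_23 ?_ ?_ fun z => ibL hx
    · rintro rfl
      have := (rootsL hx).1
      simp at this
    · rintro rfl
      have := (rootsL hx).1
      simp at this
  hw := by
    rw [rep_two]
    funext k
    fin_cases k <;> simp [sr]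
  neg := negL
  nj := nj hφ hK 1

theorem nodeS : Node (rg hφ hK) {![1, 2], ![1, 3], ![2, 3]} ![1, 2] 1 0 (cs.simple 1 * cs.simple 0) where
  dm := dmS
  orth := orthS
  comm := by
    intro x hx
    refine comm_of_not_ib (hI hφ hK) hx.1 isRoot_12 ?_ ?_ fun z => ibS hx
    · rintro rfl
      have := (rootsS hx).1
      simp at this
    · rintro rfl
      have := (rootsS hx).1
      simp at this
  hw := by
    rw [rep_two']
    funext k
    fin_cases k <;> simp [sr]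
  neg := negS
  nj := nj hφ hK 0

theorem up_sq {F : Type*} [Field F] [CharP F 2] : (up 1 * up 1 : Matrix.SpecialLinearGroup (Fin 2) F) = 1 := by
  have h2 : (1 : F) + 1 = 0 := CharTwo.add_self_eq_zero 1
  apply Subtype.ext
  show (!![1, 1; 0, 1] : Matrix (Fin 2) (Fin 2) F) * !![1, 1; 0, 1] = 1
  ext i j
  fin_cases i <;> fin_cases j <;> simp [Matrix.mul_apply, Fin.sum_univ_two, h2]

theorem up_ne {F : Type*} [Field F] : (up 1 : Matrix.SpecialLinearGroup (Fin 2) F) ≠ 1 := by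
  intro h
  have h1 := congrFun (congrFun (congrArg Subtype.val h) 0) 1
  change (1 : F) = 0 at h1
  exact one_ne_zero h1

theorem up_cube {F : Type*} [Field F] [CharP F 2] :
    ((up 1 * ((wS 1)⁻¹ * up 1 * wS 1)) ^ 3 : Matrix.SpecialLinearGroup (Fin 2) F) = 1 := by
  have h2 : (1 : F) + 1 = 0 := CharTwo.add_self_eq_zero 1
  have hn : (-1 : F) = 1 := by rw [CharTwo.neg_eq]
  have h3 : ((wS 1)⁻¹ * up 1 * wS 1 : Matrix.SpecialLinearGroup (Fin 2) F) = lo 1 := by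
    rw [mul_assoc, inv_mul_eq_iff_eq_mul]
    apply Subtype.ext
    rw [Matrix.SpecialLinearGroup.coe_mul, Matrix.SpecialLinearGroup.coe_mul, coe_wS one_ne_zero]
    show (!![1, 1; 0, 1] : Matrix (Fin 2) (Fin 2) F) * !![0, 1; -1⁻¹, 0] = !![0, 1; -1⁻¹, 0] * !![1, 0; 1, 1]
    ext i j
    fin_cases i <;> fin_cases j <;> simp [Matrix.mul_apply, Fin.sum_univ_two, hn]
  rw [h3]
  apply Subtype.ext
  rw [Matrix.SpecialLinearGroup.coe_pow, Matrix.SpecialLinearGroup.coe_mul]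
  show ((!![1, 1; 0, 1] : Matrix (Fin 2) (Fin 2) F) * !![1, 0; 1, 1]) ^ 3 = 1
  have h4 : ((!![1, 1; 0, 1] : Matrix (Fin 2) (Fin 2) F) * !![1, 0; 1, 1]) = !![0, 1; 1, 1] := by
    ext i j
    fin_cases i <;> fin_cases j <;> simp [Matrix.mul_apply, Fin.sum_univ_two, h2]
  rw [h4, pow_three]
  ext i j
  fin_cases i <;> fin_cases j <;> simp [Matrix.mul_apply, Fin.sum_univ_two, h2]

/-! ### field automorphisms -/

omit [Fintype K] [CharP K 2] in
theorem sigma_eq_one (hφ3 : ∀ x, φ (φ (φ x)) = x) {σ : K ≃+* K} (hc : ∀ x, σ (φ x) = φ (σ x))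
    (hf : ∀ x, φ x = x → σ x = x) (h2 : ∀ x, σ (σ x) = x) : σ = 1 := by
  ext x
  show σ x = x
  have e1 := hf (x + φ x + φ (φ x)) (by rw [map_add, map_add, hφ3]; ring)
  have e2 := hf (x * φ x + x * φ (φ x) + φ x * φ (φ x)) (by
    rw [map_add, map_add, map_mul, map_mul, map_mul, hφ3]; ring)
  have e3 := hf (x * φ x * φ (φ x)) (by rw [map_mul, map_mul, hφ3]; ring)
  have e4 : σ ((x - x) * (x - φ x) * (x - φ (φ x))) = 0 := by rw [sub_self, zero_mul, zero_mul, map_zero]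
  have e5 : (x - x) * (x - φ x) * (x - φ (φ x)) = x ^ 3 - (x + φ x + φ (φ x)) * x ^ 2 +
      (x * φ x + x * φ (φ x) + φ x * φ (φ x)) * x - x * φ x * φ (φ x) := by ring
  rw [e5, map_sub, map_add, map_sub, map_pow, map_mul, e1, map_pow, map_mul, e2, e3] at e4
  have e6 : (σ x - x) * (σ x - φ x) * (σ x - φ (φ x)) = 0 := by rw [← e4]; ring
  rcases mul_eq_zero.1 e6 with e7 | e7
  · rcases mul_eq_zero.1 e7 with e7 | e7
    · exact sub_eq_zero.1 e7
    · have e8 : σ x = φ x := sub_eq_zero.1 e7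
      have e9 := h2 x
      rw [e8, hc, e8] at e9
      have := congrArg φ e9
      rw [hφ3] at this
      rw [e8]
      exact this.symm
  · have e8 : σ x = φ (φ x) := sub_eq_zero.1 e7
    have e9 := h2 x
    rw [e8, hc, hc, e8, hφ3] at e9
    rw [e8, e9, e9]

/-! ### automorphisms -/

open Cfsg.Agent.H967.CopMat Cfsg.Agent.H967.CopTw Cfsg.Agent.H967.CopD4 Cfsg.Agent.H967.FaTw in
include hK in
theorem decomp (hq : IsPrimePow q) (α : MulAut ↥(twistedD4 K q)) :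
    ∃ (g : ↥(twistedD4 K q)) (σ : K ≃+* K), α = MulAut.conj g * fieldAut (stab_d4 q) σ := by
  let f : (K ≃+* K) →* Cfsg.Out ↥(twistedD4 K q) := (QuotientGroup.mk' (Cfsg.Inn _)).comp (fieldAut (stab_d4 q))
  have hfin : Finite (K ≃+* K) := Finite.of_injective (fun f : K ≃+* K => (f : K → K)) DFunLike.coe_injective
  have hfY : Finite ↥(twistedD4 K q) := inferInstance
  have hfM : Finite (MulAut ↥(twistedD4 K q)) := finite_mulAut
  have hfO : Finite (Cfsg.Out ↥(twistedD4 K q)) := finite_out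
  have hinj : Function.Injective f := by
    rw [injective_iff_map_eq_one]
    intro σ hσ
    by_contra h1
    exact not_inner_d4 hq hK σ h1 ((QuotientGroup.eq_one_iff _).1 hσ)
  have h2 : Fact (Nat.Prime 2) := ⟨Nat.prime_two⟩
  have hc := H69.OutTwD4.card_out hq hK 2
  have hbij := (Nat.bijective_iff_injective_and_card f).2 ⟨hinj, hc.symm⟩
  obtain ⟨σ, hσ⟩ := hbij.2 (QuotientGroup.mk' (Cfsg.Inn _) α)
  have h3 : QuotientGroup.mk' (Cfsg.Inn ↥(twistedD4 K q)) (α * (fieldAut (stab_d4 q) σ)⁻¹) = 1 := by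
    rw [map_mul, map_inv, mul_inv_eq_one]
    exact hσ.symm
  obtain ⟨g, hg⟩ : α * (fieldAut (stab_d4 q) σ)⁻¹ ∈ Cfsg.Inn ↥(twistedD4 K q) := (QuotientGroup.eq_one_iff _).1 h3
  exact ⟨g, σ, by rw [hg, inv_mul_cancel_right]⟩


/-- the element over `-1` -/
noncomputable def m0 : ↥(twistedD4 K q) := (n hφ 0 * n hφ 1) * ((n hφ 0 * n hφ 1) * (n hφ 0 * n hφ 1))

theorem m0_rp : Rp cs (rg hφ hK).nsys ((cs.simple 0 * cs.simple 1) *
    ((cs.simple 0 * cs.simple 1) * (cs.simple 0 * cs.simple 1))) (m0 hφ) := by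
  have h1 := (rp_simple cs (rg hφ hK).nsys 0).mul (rp_simple cs (rg hφ hK).nsys 1)
  exact h1.mul (h1.mul h1)

theorem m0_neg (x : Fin 2 → ℤ) : rep cs isCartan ((cs.simple 0 * cs.simple 1) *
    ((cs.simple 0 * cs.simple 1) * (cs.simple 0 * cs.simple 1))) x = -x := by
  rw [rep_mul_apply, rep_two, rep_mul_apply, rep_two, rep_two]
  funext k
  fin_cases k
  · simp; ring
  · simp; ring

open Cfsg.Agent.H69.OutTwD4 Cfsg.Agent.KFacts.TwDFour.Out

/-- a field automorphism of `³D₄(q)` composed with an inner automorphism, trivial on `X (± sr i)` -/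
theorem rs_eq {S : Set (Fin 2 → ℤ)} {a : Fin 2 → ℤ} {i j : Fin 2} {w : CoxeterMatrix.G₂.Group}
    (N : Node (rg hφ hK) S a i j w) (σ : K ≃+* K) {g : ↥(twistedD4 K q)}
    (h1 : ∀ z ∈ X φ q (sr i), g * st q σ z * g⁻¹ = z) (h2 : ∀ z ∈ X φ q (-sr i), g * st q σ z * g⁻¹ = z)
    (b : KD φ i) : rs hφ σ i b = b := by
  have hW : Finite CoxeterMatrix.G₂.Group := finiteW
  have hG : GG cs isCartan (T K q) (X φ q) = ⊤ := GG_eq_top (Nodes.RGDTwD4.G1_eq_top cs hK hφ)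
  obtain ⟨k, hk⟩ := exists_rp cs (rg hφ hK).nsys w
  have hX : ∀ z ∈ X φ q (sr i), st q σ z ∈ X φ q (sr i) := by
    intro z hz
    obtain ⟨b, rfl⟩ := (KFacts.TwDFour.Out.mem_X hφ hK i z).1 hz
    rw [st_up]
    exact (KFacts.TwDFour.Out.mem_X hφ hK i _).2 ⟨_, rfl⟩
  obtain ⟨t, ht, h⟩ := N.scalar (hI hφ hK) hG hk (m0_rp hφ hK) m0_neg hX
    (by simp only [m0, map_mul, st_n]) h1 h2
  have key : ∀ b : KD φ i, chD hφ hK i t * rs hφ σ i b = b := by
    intro b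
    have h3 := h _ ((KFacts.TwDFour.Out.mem_X hφ hK i _).2 ⟨b, rfl⟩)
    rw [st_up] at h3
    have h4 := (coordD hφ hK i).act t ht (rs hφ σ i b)
    rw [h3] at h4
    exact ((coordD hφ hK i).inj h4).symm
  have h5 : chD hφ hK i t = 1 := by
    have := key 1
    rwa [map_one, mul_one] at this
  have h6 := key b
  rwa [h5, one_mul] at h6

open Cfsg.Agent.H967.CopMat Cfsg.Agent.H967.CopTw Cfsg.Agent.H967.CopD4 Cfsg.Agent.H967.FaTw in
include hφ in
theorem hin {S : Set (Fin 2 → ℤ)} {a : Fin 2 → ℤ} {i j : Fin 2} {w : CoxeterMatrix.G₂.Group}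
    (N : Node (rg hφ hK) S a i j w) (hq : IsPrimePow q) (α : MulAut ↥(twistedD4 K q)) (hα : α * α = 1)
    (h1 : ∀ z ∈ X φ q (sr i), α z = z) (h2 : ∀ z ∈ X φ q (-sr i), α z = z) : ∃ g, α = MulAut.conj g := by
  obtain ⟨g, σ, rfl⟩ := decomp hK hq α
  have hst : fieldAut (stab_d4 q) σ = st q σ := rfl
  rw [hst] at hα h1 h2 ⊢
  have h3 : ∀ b : KD φ i, rs hφ σ i b = b := fun b => rs_eq hφ hK N σ (g := g) h1 h2 b
  have hσ : σ = 1 := by
    refine sigma_eq_one (φ := φ) (fun x => ?_) (fun x => ?_) (fun x hx => ?_) (fun x => ?_)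
    · rw [hφ, hφ, hφ, ← pow_mul, ← pow_mul]
      have : q * (q * q) = q ^ 3 := by ring
      rw [this, ← hK]
      exact FiniteField.pow_card x
    · rw [hφ, hφ, map_pow]
    · have h4 : x ∈ KD φ i := by
        rw [Nodes.RGDFoldSL.mem_Fx]
        have : ∀ k, φ^[k] x = x := fun k => Function.iterate_fixed hx k
        exact this _
      exact congrArg Subtype.val (h3 ⟨x, h4⟩)
    · -- `σ²` is inner
      have h4 : σ * σ = 1 := by
        by_contra hne
        apply not_inner_d4 hq hK (σ * σ) hne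
        refine ⟨(g * st q σ g)⁻¹, ?_⟩
        rw [map_mul (fieldAut (stab_d4 q)), hst, map_inv, map_mul]
        have h5 : MulAut.conj (st q σ g) = st q σ * MulAut.conj g * (st q σ)⁻¹ := by
          apply MulEquiv.ext
          intro y
          simp only [MulAut.mul_apply, MulAut.conj_apply, map_mul, map_inv, MulAut.apply_inv_self]
        have h6 : MulAut.conj g * (MulAut.conj (st q σ g)) * (st q σ * st q σ) = 1 := by
          rw [h5, ← hα]; group
        exact inv_eq_of_mul_eq_one_right h6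
      exact congrArg (fun τ : K ≃+* K => τ x) h4
  refine ⟨g, ?_⟩
  rw [hσ]
  have : st q (1 : K ≃+* K) = 1 := by
    rw [← show fieldAut (stab_d4 q) (1 : K ≃+* K) = st q 1 from rfl, map_one]
  rw [this, mul_one]


/-! ### the row -/

open Cfsg.Agent.H83.ChevInv Cfsg.Agent.H83.OrthRed Cfsg.Agent.H83.FoldInv Cfsg.Agent.ChevalleyStructure.Elts

/-- the root element of the node `i` -/
noncomputable def vr (i : Fin 2) : ↥(twistedD4 K q) := Ph hφ (D4Fixed.twisted_le_fix hK hφ) i (up 1)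

theorem good_vr (hq : IsPrimePow q) (i : Fin 2) : Good (vr hφ hK i) := by
  have hW : Finite CoxeterMatrix.G₂.Group := finiteW
  have hfY : Finite ↥(twistedD4 K q) := inferInstance
  have hG : GG cs isCartan (T K q) (X φ q) = ⊤ := GG_eq_top (Nodes.RGDTwD4.G1_eq_top cs hK hφ)
  have hle : twistedD4 K q ≤ D4Fixed.fix φ := D4Fixed.twisted_le_fix hK hφ
  have hv : vr hφ hK i ∈ X φ q (sr i) := (BiChar.TwDFour.mem_X hφ hle i _).2 ⟨1, rfl⟩
  have hch : CharP (Fx φ ((Nodes.RGDTwNode.D4.rest i).length + 1)) 2 := charP_KD 2 i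
  have hv2 : vr hφ hK i * vr hφ hK i = 1 := by
    unfold vr
    rw [← map_mul, up_sq, map_one]
  have hv1 : vr hφ hK i ≠ 1 := by
    intro h1
    have h2 := (coordD hφ hK i).inj (a₁ := 1) (a₂ := 0) (by
      rw [(coordD hφ hK i).zero]
      exact h1)
    exact one_ne_zero h2
  have hv3 : (vr hφ hK i * ((n hφ i)⁻¹ * vr hφ hK i * n hφ i)) ^ 3 = 1 := by
    unfold vr
    rw [← BiChar.TwDFour.Ph_wS hφ hle i, ← map_inv, ← map_mul, ← map_mul, ← map_mul, ← map_pow, up_cube, map_one]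
  have hi : i = 0 ∨ i = 1 := by fin_cases i <;> simp
  rcases hi with rfl | rfl
  · exact (nodeL hφ hK).good (hI hφ hK) hG hv hv1 hv2 hv3 fun α => hin hφ hK (nodeS hφ hK) hq α
  · exact (nodeS hφ hK).good (hI hφ hK) hG hv hv1 hv2 hv3 fun α => hin hφ hK (nodeL hφ hK) hq α

theorem coe_vr0 : (vr hφ hK 0 : GL chevD4.Idx K) = PX hp.inList K [14] := by
  have h1 := coe_Phi_up (foldGrp hφ (D4Fixed.twisted_le_fix hK hφ)) (Nodes.RGDTwNode.D4.nodeOK 0)
    (BiChar.TwDFour.hf φ 0) 1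
  refine Eq.trans h1 ?_
  rw [PX_cons, PX_nil]
  rfl

theorem coe_vr1 : (vr hφ hK 1 : GL chevD4.Idx K) = PX hp.inList K [18, 13, 12] := by
  have h1 := coe_Phi_up (foldGrp hφ (D4Fixed.twisted_le_fix hK hφ)) (Nodes.RGDTwNode.D4.nodeOK 1)
    (BiChar.TwDFour.hf φ 1) 1
  refine Eq.trans h1 ?_
  rw [PX_cons, PX_cons, PX_cons, PX_nil]
  show xG hp.inList 18 1 * (xG hp.inList 13 (φ 1) * (xG hp.inList 12 (φ (φ 1)) * 1)) = _
  rw [map_one, map_one]

include hφ hK in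
theorem good (hq : IsPrimePow q) (y : ↥(twistedD4 K q)) (hy1 : y ≠ 1) (hy2 : y * y = 1) : Good y := by
  have FG := foldGrp hφ (D4Fixed.twisted_le_fix hK hφ)
  obtain ⟨e, he⟩ : ∃ e, e = H83.TwDFour.exists_rep hK y.2 (congrArg Subtype.val hy2) := ⟨_, rfl⟩
  clear he
  rcases e with h1 | ⟨R, hR, g, hg, e⟩
  · exact absurd (Subtype.ext h1) hy1
  have key : ∃ (i : Fin 2) (z : ↥(twistedD4 K q)), (z * y * z⁻¹ : ↥(twistedD4 K q)) = vr hφ hK i := by
    simp only [List.mem_cons, List.not_mem_nil, or_false] at hR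
    rcases hR with rfl | rfl
    · have h0 : EqvG hp.inList K (twistedD4 K q) [14] ([14].map (bact chevD4 J [0, 1])) :=
        EqvG.bword (hp := hp) FG [0, 1] (by
          intro r hr; rw [List.mem_singleton] at hr; subst hr; rw [nroots]; norm_num)
      obtain ⟨k, hk, e2⟩ := h0
      have e3 : [14].map (bact chevD4 J [0, 1]) = [23] := by decide +kernel
      rw [e3] at e2
      refine ⟨0, ⟨k⁻¹ * g, mul_mem (inv_mem hk) hg⟩, Subtype.ext ?_⟩
      show k⁻¹ * g * y * (k⁻¹ * g)⁻¹ = _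
      rw [coe_vr0 hφ hK]
      calc k⁻¹ * g * y * (k⁻¹ * g)⁻¹ = k⁻¹ * (g * y * g⁻¹) * k := by group
        _ = _ := by rw [e, ← e2]; group
    · refine ⟨1, ⟨g, hg⟩, Subtype.ext ?_⟩
      show g * y * g⁻¹ = _
      rw [coe_vr1 hφ hK]
      exact e
  obtain ⟨i, z, hz⟩ := key
  have h1 := (good_vr hφ hK hq i).conj z⁻¹
  rw [← hz] at h1
  have h2 : z⁻¹ * (z * y * z⁻¹) * z⁻¹⁻¹ = y := by group
  rwa [h2] at h1

/-- **Row twD4.** -/
theorem dead : DeadS.{u} fun K _ => H731.SK.TwDFourEven K := by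
  rintro G _ _ V K h ⟨F, iF, iT, iC, q, hq, hF, he⟩
  obtain ⟨φ, hφ⟩ := D4Fixed.exists_frob hq hF
  obtain ⟨p, f, hp', hc, hf, rfl, hF'⟩ := H565.CopTw.exists_params hq hF (by norm_num)
  have : Fact p.Prime := ⟨hp'⟩
  have h6 : ∀ y : ↥(twistedD4 F (p ^ f)), y ≠ 1 → y * y = 1 → Good y := @good F iF iT iC _ _ hφ hF hq
  exact dead_of_good h6 (outLe_3d4 p f hF' hf) V K h he

end Cfsg.Agent.H282.SK.TwDFour
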